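import Cfsg.Agent.LargeExtra.Perp
import Cfsg.Agent.LargeExtra.Base
import Cfsg.Agent.H867.MinIdx_m3
import Cfsg.Agent.H867.SporMI
import Cfsg.Agent.Foote.Row.Baby
import Cfsg.Agent.Schreier.BabyMonster
import Cfsg.Agent.H848.MonsterSetup
import Cfsg.Agent.MonsterU.AmalElts
import Cfsg.Agent.FastGrp
import Cfsg.Agent.Prune
set_option linter.all false

section
prune_inst 0x7f00000000000000000000000000000000000000000000000000000000000000000000000000000000000000000000000000000000000000000000000000000000000000000000000000000000000000003fffffffffffffffffffffffffffbeffbdffffffff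

-- part: H384/LargeIdx
section
set_option linter.all false
open scoped Cfsg.Agent.FastGrp

/-!
# Degrees of groups with a large extraspecial subgroup (helper384)

`Q` a large extraspecial subgroup of `K` at `z`, `|Q| = 2 ^ (2 n + 1)`, `π : C_K(z) → L` onto with kernel `Q`, `C_K(z)`
irreducible on `Q / ⟨z⟩`, every action of `L` on fewer than `m` points trivial.  If `K` acts on `Ω` and `z` does not act
trivially then `|Ω| ≥ min (|Q|) (m * 2 ^ (n + 1))`.
-/

set_option autoImplicit false

namespace Cfsg.Agent.H384.LargeIdx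

open Subgroup MulAction Cfsg.Agent.Co2Type.Quad Cfsg.Agent.H867.MinIdx

universe u v w

variable {K : Type u} [Group K] {Q : Subgroup K} {z : K}

/-- a subgroup of `Q` not containing `z` is abelian -/
theorem comm_of_not_mem (h : Large Q z) {A : Subgroup K} (hA : A ≤ Q) (hz : z ∉ A) {x y : K} (hx : x ∈ A)
    (hy : y ∈ A) : x * y = y * x := by
  rcases h.comm x (hA hx) y (hA hy) with h1 | h1
  · exact h1
  · exfalso
    apply hz
    have : z = (y * x)⁻¹ * (x * y) := by rw [h1]; group
    rw [this]
    exact A.mul_mem (A.inv_mem (A.mul_mem hy hx)) (A.mul_mem hx hy)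

/-- a subgroup of `Q` not containing `z` has order at most `√|V|` -/
theorem card_sq_le [Finite Q] (h : Large Q z) {A : Subgroup K} (hA : A ≤ Q) (hz : z ∉ A) :
    Nat.card A * Nat.card A ≤ Nat.card h.V := by
  have h1 := Cfsg.Agent.LargeExtra.Perp.card_sq_le h (Cfsg.Agent.LargeExtra.Local.sub h A) (by
    rintro _ ⟨x, hx, rfl⟩ _ ⟨y, hy, rfl⟩
    exact (h.b_pr x y).2 (comm_of_not_mem h hA hz hx hy))
  refine (Nat.mul_le_mul ?_ ?_).trans h1 <;>
  · have : Finite (Cfsg.Agent.LargeExtra.Local.sub h A) := by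
      have : Finite h.V := Finite.of_surjective _ h.pr_surjective
      infer_instance
    refine Nat.card_le_card_of_injective
      (fun a : A => (⟨h.pr ⟨a, hA a.2⟩, ⟨a, hA a.2⟩, a.2, rfl⟩ : Cfsg.Agent.LargeExtra.Local.sub h A)) ?_
    intro a b hab
    have h2 := congrArg Subtype.val hab
    rcases h.pr_eq_pr.1 h2 with h3 | h3
    · exact Subtype.ext h3
    · exfalso
      apply hz
      have h4 : (a : K) = b * z := h3
      have : z = (b : K)⁻¹ * a := by rw [h4]; group
      rw [this]
      exact A.mul_mem (A.inv_mem b.2) a.2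

theorem relIndex_mul_card {X : Type*} [Group X] {A B : Subgroup X} (hAB : A ≤ B) :
    A.relIndex B * Nat.card A = Nat.card B := by
  rw [← card_mul_index (A.subgroupOf B), mul_comm, Nat.card_congr (subgroupOfEquivOfLe hAB).toEquiv]
  rfl

/-- every invariant subgroup of `Q` is central or everything -/
def Irr (Q : Subgroup K) (z : K) : Prop :=
  ∀ N : Subgroup K, N ≤ Q → (∀ g : K, g * z = z * g → ∀ n ∈ N, g * n * g⁻¹ ∈ N) → (∀ n ∈ N, n = 1 ∨ n = z) ∨ N = Q

variable {Ω : Type w} [MulAction K Ω]

theorem main_aux [Finite K] [Finite Ω] (h : Large Q z) {n m : ℕ} (hQ : Nat.card Q = 2 ^ (2 * n + 1)) (hirr : Irr Q z)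
    (hn : n ≠ 0) {L : Type v} [Group L] {C : Subgroup K} (hC : C = centralizer ({z} : Set K)) (π : C →* L)
    (hπ : Function.Surjective π)
    (hker : ∀ c : C, π c = 1 ↔ (c : K) ∈ Q) (hm : MI L m) {ω : Ω} (hω : z • ω ≠ ω) :
    2 ^ (2 * n + 1) ≤ Nat.card Ω ∨ m * 2 ^ (n + 1) ≤ Nat.card Ω := by
  classical
  set A := stabilizer K ω ⊓ Q with hA
  have hzA : z ∉ A := fun hz => hω hz.1
  have hAQ : A ≤ Q := inf_le_right
  have hcA := card_sq_le h hAQ hzA
  have hV : Nat.card h.V = 2 ^ (2 * n) := by
    have h1 := h.card_eq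
    rw [hQ, pow_succ] at h1
    omega
  have hA2 : Nat.card A ≤ 2 ^ n := by
    rw [hV, two_mul, pow_add] at hcA
    exact Nat.mul_self_le_mul_self_iff.1 hcA
  -- `Q` as a subgroup of `C`
  have hmC : ∀ x : K, x ∈ C ↔ x * z = z * x := fun x => by rw [hC]; exact mem_centralizer_singleton_iff
  have hQC : Q ≤ C := fun x hx => (hmC x).2 (h.comm_z x hx)
  let H : Subgroup C := stabilizer C ω
  let QC : Subgroup C := Q.subgroupOf C
  have hker' : π.ker = QC := by
    ext c
    rw [MonoidHom.mem_ker, mem_subgroupOf]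
    exact hker c
  have hQn : QC.Normal := by rw [← hker']; infer_instance
  -- the orbit of `ω` under `C`
  have horb : Nat.card (orbit C ω) = H.index := (index_stabilizer C ω).symm
  have hle : H.index ≤ Nat.card Ω := by rw [← horb]; exact Nat.card_le_card_of_injective _ Subtype.val_injective
  have hcQC : Nat.card QC = Nat.card Q := Nat.card_congr (subgroupOfEquivOfLe hQC).toEquiv
  -- index of `H` in `H Q` is `|Q : Q ∩ H|`
  have hrel : H.relIndex QC * Nat.card A = Nat.card Q := by
    have h1 := card_mul_index (H.subgroupOf QC)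
    have h5 : Nat.card ↥(H.subgroupOf QC) = Nat.card A :=
      Nat.card_congr ⟨fun x => ⟨x.1.1.1, ⟨x.2, x.1.2⟩⟩, fun x => ⟨⟨⟨x.1, hQC x.2.2⟩, x.2.2⟩, x.2.1⟩,
        fun _ => rfl, fun _ => rfl⟩
    rw [h5, hcQC, mul_comm] at h1
    exact h1
  have hidx : H.index = H.relIndex (H ⊔ QC) * (H ⊔ QC).index := (relIndex_mul_index le_sup_left).symm
  have hrel2 : H.relIndex (H ⊔ QC) = H.relIndex QC := by
    have h1 : QC.relIndex (H ⊔ QC) = QC.relIndex H := relIndex_sup_right H QC
    have h2 : QC.relIndex (H ⊔ QC) * Nat.card QC = Nat.card ↥(H ⊔ QC) := relIndex_mul_card le_sup_right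
    have h3 : H.relIndex (H ⊔ QC) * Nat.card H = Nat.card ↥(H ⊔ QC) := relIndex_mul_card le_sup_left
    have h4 : QC.relIndex H * Nat.card ↥(QC.subgroupOf H) = Nat.card H := by
      rw [mul_comm]; exact card_mul_index (QC.subgroupOf H)
    have h5 : H.relIndex QC * Nat.card ↥(H.subgroupOf QC) = Nat.card QC := by
      rw [mul_comm]; exact card_mul_index (H.subgroupOf QC)
    have h6 : Nat.card ↥(H.subgroupOf QC) = Nat.card ↥(QC.subgroupOf H) :=
      Nat.card_congr ⟨fun x => ⟨⟨x.1.1, x.2⟩, x.1.2⟩, fun x => ⟨⟨x.1.1, x.2⟩, x.1.2⟩, fun _ => rfl, fun _ => rfl⟩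
    have h7 : 0 < Nat.card H := Nat.card_pos
    apply Nat.eq_of_mul_eq_mul_right h7
    rw [h3, ← h2, h1, ← h4, ← h5, h6]
    ring
  by_cases htop : H ⊔ QC = ⊤
  · -- `A ⟨z⟩` is invariant
    left
    have hAinv : ∀ g : K, g * z = z * g → ∀ a ∈ A, g * a * g⁻¹ ∈ A ∨ g * a * g⁻¹ * z ∈ A := by
      intro g hg a ha
      have hgC : g ∈ C := (hmC g).2 hg
      have h1 : (⟨g, hgC⟩ : C) ∈ H ⊔ QC := by rw [htop]; exact mem_top _
      rw [mem_sup_of_normal_right] at h1
      obtain ⟨y, hy, q, hq, hyq⟩ := h1
      have hgy : g = y * q := (congrArg Subtype.val hyq).symm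
      have hqQ : (q : K) ∈ Q := hq
      have hyz : (y : K) * z = z * y := (hmC y).1 y.2
      have hyst : (y : K) • ω = ω := hy
      have hyA : ∀ b ∈ A, (y : K) * b * (y : K)⁻¹ ∈ A := by
        intro b hb
        refine ⟨?_, h.conj_mem y hyz b hb.2⟩
        have hbω : b • ω = ω := hb.1
        show ((y : K) * b * (y : K)⁻¹) • ω = ω
        have hyi : (y : K)⁻¹ • ω = ω := by rw [inv_smul_eq_iff, hyst]
        rw [mul_smul, mul_smul, hyi, hbω, hyst]
      rcases h.comm q hqQ a ha.2 with h2 | h2
      · left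
        have : g * a * g⁻¹ = (y : K) * a * (y : K)⁻¹ := by
          rw [hgy]
          calc (y : K) * q * a * ((y : K) * q)⁻¹ = y * (q * a) * (q : K)⁻¹ * (y : K)⁻¹ := by group
            _ = _ := by rw [h2]; group
        rw [this]; exact hyA a ha
      · right
        have : g * a * g⁻¹ * z = (y : K) * a * (y : K)⁻¹ := by
          have hzz : z * z = 1 := h.z_sq
          have hzq : z * (q : K)⁻¹ = (q : K)⁻¹ * z := by
            have := h.comm_z (q : K)⁻¹ (Q.inv_mem hqQ)
            exact this.symm
          have hzy : z * (y : K)⁻¹ = (y : K)⁻¹ * z := by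
            have : (y : K)⁻¹ * z = z * (y : K)⁻¹ := by
              rw [inv_mul_eq_iff_eq_mul, ← mul_assoc, hyz, mul_inv_cancel_right]
            exact this.symm
          rw [hgy]
          calc (y : K) * q * a * ((y : K) * q)⁻¹ * z = y * (q * a) * (q : K)⁻¹ * (y : K)⁻¹ * z := by group
            _ = y * a * q * (z * (q : K)⁻¹) * (y : K)⁻¹ * z := by rw [h2]; group
            _ = y * a * (z * (y : K)⁻¹) * z := by rw [hzq]; group
            _ = y * a * (y : K)⁻¹ * (z * z) := by rw [hzy]; group
            _ = _ := by rw [hzz, mul_one]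
        rw [this]; exact hyA a ha
    have hzz : z * z = 1 := h.z_sq
    have hac : ∀ a ∈ Q, a * z = z * a := h.comm_z
    let N : Subgroup K :=
      { carrier := {x | x ∈ A ∨ x * z ∈ A}
        one_mem' := Or.inl A.one_mem
        mul_mem' := by
          have hcom : ∀ x, x ∈ A ∨ x * z ∈ A → x ∈ Q := by
            rintro x (hx | hx)
            · exact hx.2
            · have : x = x * z * z := by rw [mul_assoc, hzz, mul_one]
              rw [this]; exact Q.mul_mem hx.2 h.z_mem
          intro a b ha hb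
          have hbz := hac b (hcom b hb)
          rcases ha with ha | ha <;> rcases hb with hb | hb
          · exact Or.inl (A.mul_mem ha hb)
          · right; rw [mul_assoc]; exact A.mul_mem ha hb
          · right
            have : a * b * z = a * z * b := by rw [mul_assoc, hbz, ← mul_assoc]
            rw [this]; exact A.mul_mem ha hb
          · left
            have : a * b = a * z * (b * z) := by
              rw [hbz]
              calc a * b = a * (z * z) * b := by rw [hzz, mul_one]
                _ = _ := by group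
            rw [this]; exact A.mul_mem ha hb
        inv_mem' := by
          intro a ha
          have hz1 : z⁻¹ = z := h.z_inv
          rcases ha with ha | ha
          · exact Or.inl (A.inv_mem ha)
          · right
            have hQa : a ∈ Q := by
              have : a = a * z * z := by rw [mul_assoc, hzz, mul_one]
              rw [this]; exact Q.mul_mem ha.2 h.z_mem
            have : a⁻¹ * z = (a * z)⁻¹ := by
              rw [hac a hQa, mul_inv_rev, hz1]
            rw [this]; exact A.inv_mem ha }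
    have hNQ : N ≤ Q := by
      rintro x (hx | hx)
      · exact hx.2
      · have : x = x * z * z := by rw [mul_assoc, hzz, mul_one]
        rw [this]; exact Q.mul_mem hx.2 h.z_mem
    rcases hirr N hNQ (by
      intro g hg x hx
      rcases hx with hx | hx
      · exact hAinv g hg x hx
      · have h3 : g * (x * z) * g⁻¹ = g * x * g⁻¹ * z := by
          have : z * g⁻¹ = g⁻¹ * z := by
            rw [eq_inv_mul_iff_mul_eq, ← mul_assoc, hg, mul_inv_cancel_right]
          rw [← mul_assoc, mul_assoc (g * x), this, ← mul_assoc]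
        rcases hAinv g hg (x * z) hx with h4 | h4
        · right; rw [← h3]; exact h4
        · left
          have : g * x * g⁻¹ = g * (x * z) * g⁻¹ * z := by rw [h3, mul_assoc (g * x * g⁻¹), hzz, mul_one]
          rw [this]; exact h4) with h5 | h5
    · -- `A = 1`
      have hA1 : A = ⊥ := by
        rw [eq_bot_iff]
        intro a ha
        rcases h5 a (Or.inl ha) with h6 | h6
        · exact h6
        · exact absurd (h6 ▸ ha) hzA
      have h6 : Nat.card A = 1 := by rw [hA1]; exact card_bot
      rw [h6, mul_one, hQ] at hrel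
      rw [← hrel, ← hrel2]
      refine le_trans ?_ hle
      rw [hidx, htop, index_top, mul_one]
    · -- `Q` would be abelian
      exfalso
      have h6 : Nat.card Q ≤ 2 * Nat.card A := by
        have h7 : Nat.card Q = Nat.card N := by rw [h5]
        rw [h7, ← Nat.card_eq_fintype_card (α := Bool) |>.trans (by simp) |> fun e : Nat.card Bool = 2 => e,
          ← Nat.card_prod]
        refine Nat.card_le_card_of_injective
          (fun x : N => if hx : (x : K) ∈ A then (false, (⟨x, hx⟩ : A)) else
            (true, (⟨x * z, x.2.resolve_left hx⟩ : A))) ?_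
        intro x y hxy
        by_cases hx : (x : K) ∈ A <;> by_cases hy : (y : K) ∈ A
        · simp only [hx, hy, dif_pos] at hxy
          exact Subtype.ext (congrArg (fun t : Bool × A => (t.2 : K)) hxy)
        · simp [hx, hy] at hxy
        · simp [hx, hy] at hxy
        · simp only [hx, hy, dif_neg, not_false_eq_true] at hxy
          have := congrArg (fun t : Bool × A => (t.2 : K)) hxy
          exact Subtype.ext (mul_right_cancel this)
      rw [hQ, pow_succ, mul_comm] at h6
      have h7 : 2 ^ (2 * n) ≤ 2 ^ n := by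
        have h8 : 2 ^ (2 * n) ≤ Nat.card A := by omega
        exact h8.trans hA2
      have h8 := (Nat.pow_le_pow_iff_right (by norm_num : 1 < 2)).1 h7
      omega
  · right
    have h1 : m ≤ (H ⊔ QC).index := by
      have h2 : (H ⊔ QC).map π ≠ ⊤ := by
        intro h3
        apply htop
        have h4 := congrArg (Subgroup.comap π) h3
        rw [comap_map_eq, comap_top, hker', sup_assoc, sup_idem] at h4
        exact h4
      have h3 : ((H ⊔ QC).map π).index = (H ⊔ QC).index := by
        rw [index_map, hker', sup_assoc, sup_idem, MonoidHom.range_eq_top.2 hπ, index_top, mul_one]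
      have : Finite L := Finite.of_surjective _ hπ
      rw [← h3]
      exact hm.index _ h2
    have h2 : 2 ^ (n + 1) ≤ H.relIndex QC := by
      by_contra hcon
      push Not at hcon
      have h3 : H.relIndex QC * Nat.card A < 2 ^ (n + 1) * 2 ^ n :=
        Nat.mul_lt_mul_of_lt_of_le hcon hA2 (by positivity)
      rw [hrel, hQ, ← pow_add] at h3
      have h4 : n + 1 + n = 2 * n + 1 := by ring
      rw [h4] at h3
      exact lt_irrefl _ h3
    refine le_trans ?_ hle
    rw [hidx, hrel2, mul_comm]
    exact Nat.mul_le_mul h2 h1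

theorem main [Finite K] [Finite Ω] (h : Large Q z) {n m : ℕ} (hQ : Nat.card Q = 2 ^ (2 * n + 1)) (hirr : Irr Q z)
    (hn : n ≠ 0) {L : Type v} [Group L] (π : centralizer ({z} : Set K) →* L) (hπ : Function.Surjective π)
    (hker : ∀ c : centralizer ({z} : Set K), π c = 1 ↔ (c : K) ∈ Q) (hm : MI L m) {ω : Ω} (hω : z • ω ≠ ω) :
    2 ^ (2 * n + 1) ≤ Nat.card Ω ∨ m * 2 ^ (n + 1) ≤ Nat.card Ω :=
  main_aux h hQ hirr hn rfl π hπ hker hm hω

/-- **Minimal degree of a simple group with a large extraspecial subgroup.** -/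
theorem mi [Finite K] [IsSimpleGroup K] (h : Large Q z) {n m : ℕ} (hQ : Nat.card Q = 2 ^ (2 * n + 1)) (hirr : Irr Q z)
    (hn : n ≠ 0) {L : Type v} [Group L] (π : centralizer ({z} : Set K) →* L) (hπ : Function.Surjective π)
    (hker : ∀ c : centralizer ({z} : Set K), π c = 1 ↔ (c : K) ∈ Q) (hm : MI L m) {N : ℕ}
    (h1 : N ≤ 2 ^ (2 * n + 1)) (h2 : N ≤ m * 2 ^ (n + 1)) : MI K N := by
  intro k hk f x
  have hfz : f z = 1 := by
    by_contra hcon
    let _ : MulAction K (Fin k) := MulAction.compHom (Fin k) f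
    obtain ⟨ω, hω⟩ : ∃ ω : Fin k, z • ω ≠ ω := by
      by_contra h3
      push Not at h3
      exact hcon (Equiv.ext h3)
    rcases main (Ω := Fin k) h hQ hirr hn π hπ hker hm hω with h3 | h3
    · rw [Nat.card_fin] at h3; omega
    · rw [Nat.card_fin] at h3; omega
  have h3 : f.ker = ⊤ := by
    rcases (inferInstance : f.ker.Normal).eq_bot_or_eq_top with h4 | h4
    · exfalso
      have : z ∈ f.ker := hfz
      rw [h4, mem_bot] at this
      exact h.z_ne this
    · exact h4
  have : x ∈ f.ker := by rw [h3]; exact mem_top x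
  exact this

end Cfsg.Agent.H384.LargeIdx
end

-- part: H384/LargeIdxB
section
set_option linter.all false
open scoped Cfsg.Agent.FastGrp

/-!
# The minimal degree of the Baby Monster is at least `2752512` (helper384)
-/

set_option autoImplicit false

namespace Cfsg.Agent.H384.LargeIdxB

open Subgroup Cfsg Cfsg.Agent.BabyM Cfsg.Agent.BabyM.Model Cfsg.Agent.BabyU.ClosModel
open Cfsg.Agent.BabyU.ClosLane Cfsg.Agent.KFacts Cfsg.Agent.H867.MinIdx Cfsg.Agent.Schreier

theorem model : MI Inst.M.G 2752512 := by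
  have := A.finite_G
  have := A.simple
  have := A.grp.simple
  obtain ⟨π, hπ, hker⟩ := Baby.Inst.quot A
  have hcard : Nat.card (PP Inst.M) = 2 ^ (2 * 11 + 1) := by
    rw [show 2 * 11 + 1 = 23 from rfl, ← A.grp.Q_card]
    exact Nat.card_congr (Subgroup.subgroupOfEquivOfLe (A.grp.Q_le.trans A.C_le_G)).toEquiv
  obtain ⟨e⟩ := CoTwoStab.exists_equiv _ GroupInst.dt_l₀
  have hs : IsSimpleGroup Spor.Co2 := e.symm.isSimpleGroup
  exact LargeIdx.mi (Baby.Inst.large A) hcard (Baby.Inst.irr' A) (by norm_num) π hπ hker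
    ((H867.SporMI.co2 hs).congr e.symm) (by norm_num) (by norm_num)

theorem baby : MI Spor.BabyMonster 2752512 := model.congr BM.KHAll.iso.symm

end Cfsg.Agent.H384.LargeIdxB
end

-- part: H581/MonMI
section
set_option linter.all false
open scoped Cfsg.Agent.FastGrp

/-!
# The minimal degree of the Monster is at least `672 * 2 ^ 13 = 5505024` (helper581)
-/

set_option autoImplicit false

namespace Cfsg.Agent.H581.MonMI

open Cfsg Cfsg.Agent.Co2Type.Quad
open Cfsg.Agent.SporadicA Cfsg.Agent.SporadicA.Co1Simple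
open Cfsg.Agent.CoOneType.CoOneE (pr pr_surjective E)
open Cfsg.Agent.MonsterU.Lam2 (L2 cl cl_surjective bf qf add_self neg_eq irreducible)
open Cfsg.Agent.MonsterU.CoFrameL2 Cfsg.Agent.MonsterU.Ch
open Cfsg.Spor (Co1)

variable {G : Type*} [Group G] {Q : Subgroup G} {z : G} {eta : G → L2}
  {pi : Subgroup.centralizer ({z} : Set G) →* Co1}

/-- `Q/⟨z⟩` is irreducible. -/
theorem irr (h : Chart Q z eta pi) : H384.LargeIdx.Irr Q z := by
  intro N hN hinv
  let U : AddSubgroup L2 :=
    { carrier := {v | ∃ x ∈ N, eta x = v}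
      zero_mem' := ⟨1, N.one_mem, h.eta_one⟩
      add_mem' := by
        rintro _ _ ⟨x, hx, rfl⟩ ⟨y, hy, rfl⟩
        exact ⟨x * y, N.mul_mem hx hy, h.eta_mul x (hN hx) y (hN hy)⟩
      neg_mem' := by
        rintro _ ⟨x, hx, rfl⟩
        exact ⟨x, hx, (neg_eq _).symm⟩ }
  have hmemU : ∀ v, v ∈ U ↔ ∃ x ∈ N, eta x = v := fun _ => Iff.rfl
  have hU : ∀ g : Co0, ∀ x ∈ U, g • x ∈ U := by
    rintro g _ ⟨x, hx, rfl⟩
    obtain ⟨c, hc⟩ := h.pi_surj (pr g)
    refine ⟨(c : G) * x * (c : G)⁻¹, hinv _ (Subgroup.mem_centralizer_singleton_iff.1 c.2) x hx, ?_⟩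
    rw [h.eta_conj c x (hN hx), hc, pr_smul]
  rcases irreducible U hU with e | e
  · left
    intro n hn
    have h1 : eta n ∈ U := ⟨n, hn, rfl⟩
    rw [e] at h1
    exact (h.eta_zero n (hN hn)).1 (AddSubgroup.mem_bot.1 h1)
  · right
    have hall : ∀ v : L2, ∃ x ∈ N, eta x = v := fun v => (hmemU v).1 (by rw [e]; trivial)
    have hz : z ∈ N := by
      obtain ⟨v, -, w, -, hvw⟩ := Cfsg.Agent.MonsterU.AmalPerf.exists_pair
      obtain ⟨x, hx, rfl⟩ := hall v
      obtain ⟨y, hy, rfl⟩ := hall w
      have h1 := (h.comm_z_iff (hN hx) (hN hy)).2 hvw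
      have h2 : z = (y * x)⁻¹ * (x * y) := by rw [h1]; group
      rw [h2]
      exact N.mul_mem (N.inv_mem (N.mul_mem hy hx)) (N.mul_mem hx hy)
    refine le_antisymm hN fun q hq => ?_
    obtain ⟨x, hx, hxq⟩ := hall (eta q)
    rcases (h.eta_eq hq (hN hx)).1 hxq.symm with h1 | h1
    · rw [h1]; exact hx
    · rw [h1]; exact N.mul_mem hx hz

/-- **The minimal degree of the Monster.** -/
theorem monster : H867.MinIdx.MI Spor.Monster 5505024 := by
  have := Cfsg.Agent.H848.MonsterSetup.finite
  have hs : IsSimpleGroup Spor.Monster := MonsterP.Equiv.isM.1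
  obtain ⟨Q, z, eta, pi, -, -, h, -, -, -, -⟩ := Cfsg.Agent.H848.MonsterSetup.exists_setup
  exact H384.LargeIdx.mi h.large (n := 12) h.card_Q (irr h) (by norm_num) pi h.pi_surj (fun c => h.pi_eq_one c)
    H867.SporMI.co1 (by norm_num) (by norm_num)

end Cfsg.Agent.H581.MonMI
end
end
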