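import Mathlib
import Cfsg.Agent.Prune
set_option linter.all false
prune_inst 0x7f00000000000000000000000000000000000000000000000000000000000000000000000000000000000000000000000000000000000000000000000000000000000000000000000000000000000000003fffffffffffffffffffffffffffbeffbdffbfffff
open scoped Cfsg.Agent.FastGrp

/-!
# Primitive groups with an element having two cycles of coprime lengths `2 ≤ k < l`
-/

set_option autoImplicit false

namespace Cfsg.Agent.H384.TwoCyc

open MulAction Pointwise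

universe u v

/-- subgroups of a finite cyclic group are determined by their order -/
theorem eq_of_card {C : Type*} [Group C] [Finite C] [IsCyclic C] {A B : Subgroup C}
    (h : Nat.card A = Nat.card B) : A = B := by
  classical
  have : Fintype C := Fintype.ofFinite C
  have key : ∀ D : Subgroup C, (D : Set C) = {x : C | x ^ Nat.card D = 1} := by
    intro D
    apply Set.eq_of_subset_of_ncard_le
    · intro x hx
      have h1 : (⟨x, hx⟩ : D) ^ Nat.card D = 1 := pow_card_eq_one'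
      exact congrArg Subtype.val h1
    · have h1 := IsCyclic.card_pow_eq_one_le (α := C) (n := Nat.card D) Nat.card_pos
      have h2 : ({x : C | x ^ Nat.card D = 1} : Set C).ncard ≤ Nat.card D := by
        convert h1 using 1
        rw [← Set.ncard_coe_finset]
        congr 1
        ext x
        simp
      exact h2
    · exact Set.toFinite _
  apply SetLike.coe_injective
  rw [key A, key B, h]

variable {X : Type u} [Group X] {Ω : Type v} [MulAction X Ω]

/-- `g` is a cycle with support (or fixed point set, if it has one element) `S` -/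
structure Cyc (g : X) (S : Set Ω) : Prop where
  fix : ∀ ω, ω ∉ S → g • ω = ω
  orb : ∀ ω, ω ∈ S → orbit (Subgroup.zpowers g) ω = S

theorem Cyc.fixz {g : X} {S : Set Ω} (h : Cyc g S) {ω : Ω} (hω : ω ∉ S) (c : Subgroup.zpowers g) :
    (c : X) • ω = ω := by
  have h1 : Subgroup.zpowers g ≤ stabilizer X ω := by
    rw [Subgroup.zpowers_le]
    exact h.fix ω hω
  exact h1 c.2

theorem Cyc.conj {g : X} {S : Set Ω} (h : Cyc g S) (x : X) : Cyc (x * g * x⁻¹) (x • S) := by
  constructor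
  · intro ω hω
    have h1 : x⁻¹ • ω ∉ S := fun hc => hω (Set.mem_smul_set_iff_inv_smul_mem.2 hc)
    rw [mul_smul, mul_smul, h.fix _ h1, smul_inv_smul]
  · intro ω hω
    have h1 : x⁻¹ • ω ∈ S := Set.mem_smul_set_iff_inv_smul_mem.1 hω
    have h2 := h.orb _ h1
    ext ω'
    rw [Set.mem_smul_set_iff_inv_smul_mem, ← h2]
    constructor
    · rintro ⟨⟨c, hc⟩, rfl⟩
      obtain ⟨i, rfl⟩ := Subgroup.mem_zpowers_iff.1 hc
      refine ⟨⟨g ^ i, Subgroup.zpow_mem_zpowers g i⟩, ?_⟩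
      simp only [Subgroup.mk_smul, conj_zpow, mul_smul, inv_smul_smul]
    · rintro ⟨⟨c, hc⟩, hc2⟩
      obtain ⟨i, rfl⟩ := Subgroup.mem_zpowers_iff.1 hc
      refine ⟨⟨(x * g * x⁻¹) ^ i, Subgroup.zpow_mem_zpowers _ i⟩, ?_⟩
      simp only [Subgroup.mk_smul, conj_zpow, mul_smul] at hc2 ⊢
      rw [hc2, smul_inv_smul]

/-- a block which meets `S` is contained in `S` or contains `S` -/
theorem Cyc.block {g : X} {S : Set Ω} (h : Cyc g S) {B : Set Ω} (hB : IsBlock (Subgroup.zpowers g) B)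
    {x : Ω} (hx : x ∈ B) (hxS : x ∈ S) : B ⊆ S ∨ S ⊆ B := by
  by_cases hc : B ⊆ S
  · exact Or.inl hc
  right
  obtain ⟨y, hy, hyS⟩ := Set.not_subset.1 hc
  rw [← h.orb x hxS]
  rintro _ ⟨c, rfl⟩
  have h1 : c • B = B := hB.smul_eq_of_mem hy (by
    have : c • y = y := h.fixz hyS c
    rw [this]; exact hy)
  change c • x ∈ B
  rw [← h1]
  exact Set.smul_mem_smul_set hx

/-- inclusion of an orbit -/
def incl (H : Subgroup X) (x : Ω) : MulActionHom (id : H → H) (orbit H x) Ω where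
  toFun := Subtype.val
  map_smul' := fun _ _ => rfl

/-- the block of the cyclic group on its orbit -/
theorem Cyc.card_dvd {g : X} {S : Set Ω} (h : Cyc g S) {B : Set Ω} (hB : IsBlock (Subgroup.zpowers g) B)
    {x : Ω} (hx : x ∈ B) (hBS : B ⊆ S) : B.ncard ∣ S.ncard := by
  have h0 := h.orb x (hBS hx)
  have h1 : IsBlock (Subgroup.zpowers g) (Subtype.val ⁻¹' B : Set (orbit (Subgroup.zpowers g) x)) :=
    hB.preimage (incl _ x)
  have h2 := h1.ncard_dvd_card ⟨⟨x, mem_orbit_self x⟩, hx⟩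
  rw [Set.ncard_preimage_of_injective_subset_range Subtype.val_injective
    (by rw [Subtype.range_val, h0]; exact hBS), Nat.card_coe_set_eq, h0] at h2
  exact h2

theorem Cyc.block_unique [Finite X] {g : X} {S : Set Ω} (h : Cyc g S) {B B' : Set Ω}
    (hB : IsBlock (Subgroup.zpowers g) B) (hB' : IsBlock (Subgroup.zpowers g) B') {x : Ω} (hx : x ∈ B)
    (hx' : x ∈ B') (hBS : B ⊆ S) (hBS' : B' ⊆ S) (hcard : B.ncard = B'.ncard) (hfin : S.Finite) : B = B' := by
  have h0 := h.orb x (hBS hx)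
  have h1 : IsBlock (Subgroup.zpowers g) (Subtype.val ⁻¹' B : Set (orbit (Subgroup.zpowers g) x)) :=
    hB.preimage (incl _ x)
  have h1' : IsBlock (Subgroup.zpowers g) (Subtype.val ⁻¹' B' : Set (orbit (Subgroup.zpowers g) x)) :=
    hB'.preimage (incl _ x)
  let x0 : orbit (Subgroup.zpowers g) x := ⟨x, mem_orbit_self x⟩
  have hx0 : x0 ∈ (Subtype.val ⁻¹' B : Set (orbit (Subgroup.zpowers g) x)) := hx
  have hx0' : x0 ∈ (Subtype.val ⁻¹' B' : Set (orbit (Subgroup.zpowers g) x)) := hx'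
  have h2 := h1.ncard_block_eq_relIndex hx0
  have h2' := h1'.ncard_block_eq_relIndex hx0'
  have hr : B ⊆ Set.range (Subtype.val : orbit (Subgroup.zpowers g) x → Ω) := by
    rw [Subtype.range_val, h0]; exact hBS
  have hr' : B' ⊆ Set.range (Subtype.val : orbit (Subgroup.zpowers g) x → Ω) := by
    rw [Subtype.range_val, h0]; exact hBS'
  rw [Set.ncard_preimage_of_injective_subset_range Subtype.val_injective hr] at h2
  rw [Set.ncard_preimage_of_injective_subset_range Subtype.val_injective hr'] at h2'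
  have h3 := Subgroup.relIndex_mul_index (h1.stabilizer_le hx0)
  have h3' := Subgroup.relIndex_mul_index (h1'.stabilizer_le hx0')
  rw [← h2] at h3
  rw [← h2', ← hcard, ← h3] at h3'
  have hB0 : 0 < B.ncard := (Set.ncard_pos (hfin.subset hBS)).2 ⟨x, hx⟩
  have h4 := Nat.eq_of_mul_eq_mul_left hB0 h3'
  have h5 : Nat.card (stabilizer (Subgroup.zpowers g)
      (Subtype.val ⁻¹' B : Set (orbit (Subgroup.zpowers g) x))) =
      Nat.card (stabilizer (Subgroup.zpowers g)
      (Subtype.val ⁻¹' B' : Set (orbit (Subgroup.zpowers g) x))) := by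
    have e1 := Subgroup.card_mul_index (stabilizer (Subgroup.zpowers g)
      (Subtype.val ⁻¹' B : Set (orbit (Subgroup.zpowers g) x)))
    have e2 := Subgroup.card_mul_index (stabilizer (Subgroup.zpowers g)
      (Subtype.val ⁻¹' B' : Set (orbit (Subgroup.zpowers g) x)))
    rw [h4, ← e1] at e2
    exact (Nat.eq_of_mul_eq_mul_right (Nat.pos_of_ne_zero Subgroup.index_ne_zero_of_finite) e2).symm
  have h6 := eq_of_card h5
  have h7 := h1.orbit_stabilizer_eq hx0
  have h7' := h1'.orbit_stabilizer_eq hx0'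
  rw [← h6, h7] at h7'
  have h8 := congrArg (fun Z => Subtype.val '' Z) h7'
  simp only [Subtype.image_preimage_coe] at h8
  rwa [h0, Set.inter_eq_right.2 hBS, Set.inter_eq_right.2 hBS'] at h8

/-- **Lemma 1.** -/
theorem Cyc.block_dvd [Finite Ω] [IsPretransitive X Ω] {d : X} {S : Set Ω} (h : Cyc d S) {r : ℕ}
    (hcard : Nat.card Ω = S.ncard + r) (hr : r < S.ncard) {B : Set Ω} (hB : IsBlock X B) (hne : B.Nonempty)
    (hu : B ≠ Set.univ) : B.ncard ∣ r := by
  obtain ⟨b, hb⟩ := hne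
  have hS : S.Nonempty := by
    rw [← Set.ncard_pos]
    omega
  obtain ⟨s, hs⟩ := hS
  obtain ⟨x, hx⟩ := exists_smul_eq X b s
  have hB1 : IsBlock X (x • B) := hB.translate x
  have hs1 : s ∈ x • B := by rw [← hx]; exact Set.smul_mem_smul_set hb
  have hc : (x • B).ncard = B.ncard := Set.ncard_smul_set _ _
  have hsub : x • B ⊆ S := by
    rcases h.block hB1.subgroup hs1 hs with h1 | h1
    · exact h1
    · exfalso
      have h2 := Set.ncard_le_ncard h1
      rw [hc] at h2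
      exact hu (hB.eq_univ_of_card_lt (by omega))
  have h3 := h.card_dvd hB1.subgroup hs1 hsub
  rw [hc] at h3
  have h4 := hB.ncard_dvd_card ⟨b, hb⟩
  rw [hcard] at h4
  exact (Nat.dvd_add_right h3).1 h4


theorem Cyc.restrict {g : X} {S : Set Ω} (h : Cyc g S) {a : Ω} (ha : a ∉ S) :
    Cyc (⟨g, h.fix a ha⟩ : stabilizer X a) (Subtype.val ⁻¹' S : Set (SubMulAction.ofStabilizer X a)) := by
  constructor
  · intro ω hω
    apply Subtype.ext
    exact h.fix ω.1 hω
  · intro ω hω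
    have h1 := h.orb ω.1 hω
    ext ω'
    rw [Set.mem_preimage]
    refine Iff.trans ?_ (Set.ext_iff.1 h1 ω'.1)
    constructor
    · rintro ⟨⟨c, hc⟩, rfl⟩
      obtain ⟨i, rfl⟩ := Subgroup.mem_zpowers_iff.1 hc
      exact ⟨⟨g ^ i, Subgroup.zpow_mem_zpowers g i⟩, rfl⟩
    · rintro ⟨⟨c, hc⟩, hc2⟩
      obtain ⟨i, rfl⟩ := Subgroup.mem_zpowers_iff.1 hc
      refine ⟨⟨(⟨g, h.fix a ha⟩ : stabilizer X a) ^ i, Subgroup.zpow_mem_zpowers _ i⟩, ?_⟩
      apply Subtype.ext
      exact hc2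

theorem Cyc.exists_stab [IsPretransitive X Ω] {g : X} {S : Set Ω} (h : Cyc g S) (hS : S ≠ Set.univ) (a : Ω) :
    ∃ (g' : stabilizer X a) (S' : Set (SubMulAction.ofStabilizer X a)), Cyc g' S' ∧ S'.ncard = S.ncard := by
  obtain ⟨y, hy⟩ := (Set.ne_univ_iff_exists_notMem _).1 hS
  obtain ⟨z, hz⟩ := exists_smul_eq X y a
  have h1 := h.conj z
  have ha : a ∉ z • S := by
    rw [← hz]
    intro hc
    exact hy (Set.smul_mem_smul_set_iff.1 hc)
  refine ⟨_, _, h1.restrict ha, ?_⟩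
  rw [Set.ncard_preimage_of_injective_subset_range Subtype.val_injective, Set.ncard_smul_set]
  intro x hx
  have : x ≠ a := fun hc => ha (hc ▸ hx)
  exact ⟨⟨x, this⟩, rfl⟩

theorem Cyc.two [Finite Ω] {d : X} {S : Set Ω} (h : Cyc d S) (hp : IsPreprimitive X Ω) {r : ℕ} (hr : 1 ≤ r)
    (hl : 2 ≤ S.ncard) (hcard : Nat.card Ω = S.ncard + r) : IsMultiplyPretransitive X Ω 2 := by
  have h1 : (Sᶜ).ncard = (r - 1) + 1 := by
    have := Set.ncard_add_ncard_compl S
    omega
  refine hp.is_two_pretransitive h1 (by omega) ?_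
  have hd : d ∈ fixingSubgroup X Sᶜ := by
    rw [mem_fixingSubgroup_iff]
    exact fun y hy => h.fix y hy
  have hz : Subgroup.zpowers d ≤ fixingSubgroup X Sᶜ := by
    rw [Subgroup.zpowers_le]; exact hd
  constructor
  rintro ⟨x, hx⟩ ⟨y, hy⟩
  have hx' : x ∈ S := by simpa [SubMulAction.mem_ofFixingSubgroup_iff] using hx
  have hy' : y ∈ S := by simpa [SubMulAction.mem_ofFixingSubgroup_iff] using hy
  rw [← h.orb x hx'] at hy'
  obtain ⟨⟨c, hc⟩, hc2⟩ := hy'
  exact ⟨⟨c, hz hc⟩, Subtype.ext hc2⟩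

section Fibre

variable {a0 : Ω} {B : Set Ω}

theorem trans_unique (hB : IsBlock (stabilizer X a0) B) {x y : X} (hxy : x • a0 = y • a0) {γ : Ω}
    (hx : γ ∈ x • B) (hy : γ ∈ y • B) : x • B = y • B := by
  have h1 : y⁻¹ * x ∈ stabilizer X a0 := by
    rw [mem_stabilizer_iff, mul_smul, hxy, inv_smul_smul]
  have h2 : (⟨y⁻¹ * x, h1⟩ : stabilizer X a0) • B = B := by
    apply hB.smul_eq_of_nonempty
    refine ⟨y⁻¹ • γ, ?_, Set.mem_smul_set_iff_inv_smul_mem.1 hy⟩
    obtain ⟨b, hb, hb2⟩ := hx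
    refine ⟨b, hb, ?_⟩
    simp only at hb2
    rw [← hb2]
    exact mul_smul _ _ _
  have h3 : (y⁻¹ * x) • B = B := h2
  rw [mul_smul, inv_smul_eq_iff] at h3
  exact h3

/-- the fibre -/
def fib (X : Type u) [Group X] [MulAction X Ω] (a0 : Ω) (B Z : Set Ω) : Set Ω :=
  {a | ∃ x : X, x • a0 = a ∧ x • B = Z}

theorem fib_smul {Z : Set Ω} {h : X} (hZ : h • Z = Z) : h • fib X a0 B Z ⊆ fib X a0 B Z := by
  rintro _ ⟨a, ⟨x, rfl, hx⟩, rfl⟩
  refine ⟨h * x, mul_smul _ _ _, ?_⟩
  rw [mul_smul, hx, hZ]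

theorem fib_block (hB : IsBlock (stabilizer X a0) B) {γ : Ω} {Z : Set Ω} (hγ : γ ∈ Z) :
    IsBlock (stabilizer X γ) (fib X a0 B Z) := by
  rw [isBlock_iff_smul_eq_of_mem]
  rintro ⟨h, hh⟩ a ha hha
  obtain ⟨x, hx, hxZ⟩ := ha
  obtain ⟨y, hy, hyZ⟩ := hha
  have h1 : (h * x) • a0 = y • a0 := by
    rw [mul_smul, hx, hy]; rfl
  have h2 : (h * x) • B = y • B := by
    refine trans_unique hB h1 (γ := γ) ?_ ?_
    · rw [mul_smul, hxZ]
      rw [mem_stabilizer_iff] at hh
      rw [← hh]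
      exact Set.smul_mem_smul_set hγ
    · rw [hyZ]; exact hγ
  have h3 : h • Z = Z := by
    rw [mul_smul, hxZ, hyZ] at h2
    exact h2
  apply Set.Subset.antisymm
  · exact fib_smul h3
  · have h4 : h⁻¹ • Z = Z := by rw [inv_smul_eq_iff, h3]
    have h5 := fib_smul (X := X) (a0 := a0) (B := B) h4
    have h6 := Set.smul_set_mono (a := h) h5
    rw [smul_inv_smul] at h6
    exact h6

end Fibre

theorem prim_stab [Finite X] [Finite Ω] (h2 : IsMultiplyPretransitive X Ω 2) {r : ℕ} (hr : 1 ≤ r)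
    {c d : X} {S T : Set Ω} (hc : Cyc c S) (hd : Cyc d T) (hk : r + 1 ≤ S.ncard) (hkl : S.ncard < T.ncard)
    (hcard : Nat.card Ω = T.ncard + (r + 1)) (a0 : Ω) :
    IsPreprimitive (stabilizer X a0) (SubMulAction.ofStabilizer X a0) := by
  have htr : IsPretransitive X Ω := isPretransitive_of_is_two_pretransitive
  have htr' : ∀ a : Ω, IsPretransitive (stabilizer X a) (SubMulAction.ofStabilizer X a) := by
    intro a
    have := (SubMulAction.ofStabilizer.isMultiplyPretransitive (G := X) (a := a) (n := 1)).1 h2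
    exact is_one_pretransitive_iff.1 this
  have hT : T ≠ Set.univ := by
    intro hT
    rw [hT, Set.ncard_univ] at hcard
    omega
  have hS : S ≠ Set.univ := by
    intro hS
    rw [hS, Set.ncard_univ] at hkl
    omega
  -- Lemma 1 for the stabilizers
  have key : ∀ (a : Ω) (Z : Set (SubMulAction.ofStabilizer X a)), IsBlock (stabilizer X a) Z → Z.Nonempty →
      Z ≠ Set.univ → Z.ncard ∣ r := by
    intro a Z hZ hne hu
    obtain ⟨d', T', hd', hT'⟩ := hd.exists_stab hT a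
    have := htr' a
    refine hd'.block_dvd ?_ ?_ hZ hne hu
    · have := SubMulAction.nat_card_ofStabilizer_add_one_eq X a
      rw [hT']
      omega
    · rw [hT']
      omega
  have := htr' a0
  constructor
  intro B0 hB0
  by_contra hnt
  rw [IsTrivialBlock] at hnt
  push Not at hnt
  obtain ⟨hn1, hn2⟩ := hnt
  set B : Set Ω := Subtype.val '' B0 with hBdef
  have hB : IsBlock (stabilizer X a0) B := isBlock_subtypeVal.2 hB0
  have ha0 : a0 ∉ B := by
    rintro ⟨b, _, hb⟩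
    exact b.2 hb
  have hBcard : B.ncard = B0.ncard := Set.ncard_image_of_injective _ Subtype.val_injective
  have hBr : B.ncard ≤ r := by
    rw [hBcard]
    exact Nat.le_of_dvd hr (key a0 B0 hB0 hn1.nonempty hn2)
  have hB2 : 2 ≤ B.ncard := by
    rw [hBcard]
    exact (Set.one_lt_ncard).2 hn1
  have hBne : B.Nonempty := by
    rw [← Set.ncard_pos]; omega
  obtain ⟨b, hb⟩ := hBne
  have hba : b ≠ a0 := fun hc => ha0 (hc ▸ hb)
  -- existence
  have hex : ∀ a γ : Ω, γ ≠ a → ∃ x : X, x • a0 = a ∧ γ ∈ x • B := by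
    intro a γ hγ
    obtain ⟨x, hx1, hx2⟩ := (is_two_pretransitive_iff.1 h2) hba.symm hγ.symm
    exact ⟨x, hx1, by rw [← hx2]; exact Set.smul_mem_smul_set hb⟩
  obtain ⟨a1, ha1⟩ := (Set.ne_univ_iff_exists_notMem _).1 hS
  have hSne : S.Nonempty := by
    rw [← Set.ncard_pos]; omega
  obtain ⟨γ, hγ⟩ := hSne
  -- all the blocks through `γ` of the stabilizers of the points outside `S`
  have hsub : ∀ (a : Ω), a ∉ S → ∀ x : X, x • a0 = a → γ ∈ x • B →
      x • B ⊆ S ∧ IsBlock (Subgroup.zpowers c) (x • B) := by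
    intro a ha x hx hxγ
    have hb1 : IsBlock (Subgroup.zpowers c) (x • B) := by
      rw [isBlock_iff_smul_eq_of_mem]
      rintro ⟨g, hg⟩ y hy hgy
      have h3 : g • y ∈ (g * x) • B := by
        rw [mul_smul]; exact Set.smul_mem_smul_set hy
      have h4 : (g * x) • a0 = x • a0 := by
        rw [mul_smul, hx]
        exact hc.fixz ha ⟨g, hg⟩
      have h5 := trans_unique hB h4 h3 hgy
      rw [mul_smul] at h5
      exact h5
    refine ⟨?_, hb1⟩
    rcases hc.block hb1 hxγ hγ with h3 | h3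
    · exact h3
    · exfalso
      have h4 := Set.ncard_le_ncard h3
      rw [Set.ncard_smul_set] at h4
      omega
  have hγa1 : γ ≠ a1 := fun hc => ha1 (hc ▸ hγ)
  obtain ⟨x1, hx1, hx1γ⟩ := hex a1 γ hγa1
  obtain ⟨hs1, hbl1⟩ := hsub a1 ha1 x1 hx1 hx1γ
  set Z : Set Ω := x1 • B with hZdef
  have hZcard : Z.ncard = B.ncard := Set.ncard_smul_set _ _
  have hF : Sᶜ ⊆ fib X a0 B Z := by
    intro a ha
    have hγa : γ ≠ a := fun hc => ha (hc ▸ hγ)
    obtain ⟨x, hx, hxγ⟩ := hex a γ hγa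
    obtain ⟨hs, hbl⟩ := hsub a ha x hx hxγ
    refine ⟨x, hx, hc.block_unique hbl hbl1 hxγ hx1γ hs hs1 ?_ (Set.toFinite _)⟩
    rw [hZcard, Set.ncard_smul_set]
  have hFγ : ∀ y ∈ Z, y ∉ fib X a0 B Z := by
    rintro y hy ⟨x, hx, hxZ⟩
    rw [← hxZ, ← hx] at hy
    exact ha0 (Set.smul_mem_smul_set_iff.1 hy)
  set F' : Set (SubMulAction.ofStabilizer X γ) := Subtype.val ⁻¹' (fib X a0 B Z) with hF'def
  have hF'b : IsBlock (stabilizer X γ) F' := (fib_block hB hx1γ).subtype_val_preimage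
  have hF'c : F'.ncard = (fib X a0 B Z).ncard := by
    apply Set.ncard_preimage_of_injective_subset_range Subtype.val_injective
    intro y hy
    have : y ≠ γ := fun hc => hFγ γ hx1γ (hc ▸ hy)
    exact ⟨⟨y, this⟩, rfl⟩
  have hFc : T.ncard + (r + 1) - S.ncard ≤ F'.ncard := by
    rw [hF'c]
    have h3 := Set.ncard_le_ncard hF
    have h4 := Set.ncard_add_ncard_compl S
    omega
  have hF'ne : F'.Nonempty := by
    rw [← Set.ncard_pos]; omega
  by_cases hu : F' = Set.univ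
  · obtain ⟨y, hy, hyγ⟩ : ∃ y ∈ Z, y ≠ γ := Set.exists_ne_of_one_lt_ncard (by omega) γ
    have h3 : (⟨y, hyγ⟩ : SubMulAction.ofStabilizer X γ) ∈ F' := by rw [hu]; trivial
    exact hFγ y hy h3
  · have h3 := Nat.le_of_dvd hr (key γ F' hF'b hF'ne hu)
    omega

theorem multi (k l : ℕ) (hkl : k < l) : ∀ (r : ℕ), 1 ≤ r → r ≤ k → ∀ (X : Type u) [Group X] [Finite X]
    (Ω : Type v) [MulAction X Ω] [Finite Ω], IsPreprimitive X Ω → Nat.card Ω = l + r →
    (∃ (c : X) (S : Set Ω), Cyc c S ∧ S.ncard = k) → (∃ (d : X) (S : Set Ω), Cyc d S ∧ S.ncard = l) →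
    IsMultiplyPretransitive X Ω (r + 1) := by
  intro r
  induction r with
  | zero => intro h; omega
  | succ r ih =>
    intro _ hrk X _ _ Ω _ _ hp hcard hc hd
    obtain ⟨d, T, hd, hT⟩ := hd
    have h2 : IsMultiplyPretransitive X Ω 2 := hd.two hp (r := r + 1) (by omega) (by omega) (by omega)
    rcases Nat.eq_zero_or_pos r with rfl | hr
    · exact h2
    obtain ⟨c, S, hc, hS⟩ := hc
    have htr : IsPretransitive X Ω := isPretransitive_of_is_two_pretransitive
    have hne : Nonempty Ω := by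
      rw [← Finite.card_pos_iff]; omega
    obtain ⟨a⟩ := hne
    rw [SubMulAction.ofStabilizer.isMultiplyPretransitive (G := X) (a := a)]
    have hTu : T ≠ Set.univ := by
      intro hT'
      rw [hT', Set.ncard_univ] at hT
      omega
    have hSu : S ≠ Set.univ := by
      intro hS'
      rw [hS', Set.ncard_univ] at hS
      omega
    apply ih hr (by omega)
    · exact prim_stab h2 hr hc hd (by omega) (by omega) (by omega) a
    · have := SubMulAction.nat_card_ofStabilizer_add_one_eq X a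
      omega
    · obtain ⟨c', S', hc', hS'⟩ := hc.exists_stab hSu a
      exact ⟨c', S', hc', by omega⟩
    · obtain ⟨c', S', hc', hS'⟩ := hd.exists_stab hTu a
      exact ⟨c', S', hc', by omega⟩


/-- the power of an element which is a cycle -/
theorem Cyc.of_pow [Finite Ω] (g : X) (ω : Ω) (m : ℕ)
    (hm : ∀ ω', ω' ∉ orbit (Subgroup.zpowers g) ω → g ^ m • ω' = ω')
    (hc : Nat.Coprime m (Nat.card (orbit (Subgroup.zpowers g) ω))) :
    Cyc (g ^ m) (orbit (Subgroup.zpowers g) ω) := by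
  classical
  refine ⟨hm, ?_⟩
  intro x hx
  have h0 : orbit (Subgroup.zpowers g) x = orbit (Subgroup.zpowers g) ω := orbit_eq_iff.2 hx
  rw [← h0]
  rw [← h0] at hc
  have : Fintype (orbit (Subgroup.zpowers g) x) := Fintype.ofFinite _
  have h1 : g ^ (Nat.card (orbit (Subgroup.zpowers g) x)) • x = x := by
    rw [pow_smul_eq_iff_minimalPeriod_dvd, minimalPeriod_eq_card, Nat.card_eq_fintype_card]
  set k := Nat.card (orbit (Subgroup.zpowers g) x) with hk
  have h2 : ∀ a : ℤ, g ^ ((k : ℤ) * a) • x = x := by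
    intro a
    have h3 : g ^ k ∈ stabilizer X x := h1
    have h4 := Subgroup.zpow_mem _ h3 a
    rw [← zpow_natCast, ← zpow_mul] at h4
    exact h4
  obtain ⟨a, b, hab⟩ := Nat.isCoprime_iff_coprime.2 hc
  apply Set.Subset.antisymm
  · rintro _ ⟨⟨c, hc⟩, rfl⟩
    obtain ⟨i, rfl⟩ := Subgroup.mem_zpowers_iff.1 hc
    refine ⟨⟨g ^ ((m : ℤ) * i), Subgroup.zpow_mem_zpowers _ _⟩, ?_⟩
    simp only [Subgroup.mk_smul]
    rw [← zpow_natCast g m, ← zpow_mul]
  · rintro _ ⟨⟨c, hc⟩, rfl⟩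
    obtain ⟨i, rfl⟩ := Subgroup.mem_zpowers_iff.1 hc
    refine ⟨⟨(g ^ m) ^ (a * i), Subgroup.zpow_mem_zpowers _ _⟩, ?_⟩
    simp only [Subgroup.mk_smul]
    have h3 : i = (m : ℤ) * (a * i) + (k : ℤ) * (b * i) := by linear_combination (-i) * hab
    conv_rhs => rw [h3, zpow_add, mul_smul, h2]
    rw [← zpow_natCast g m, ← zpow_mul]

theorem three [Fintype Ω] [DecidableEq Ω] {c : X} {S : Set Ω} (hc : Cyc c S) {k : ℕ} (hk : 2 ≤ k)
    (hS : S.ncard = k) (hSu : S ≠ Set.univ) (h : IsMultiplyPretransitive X Ω k) :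
    ∃ t ∈ (toPermHom X Ω).range, t.IsThreeCycle := by
  obtain ⟨y, hy⟩ := (Set.ne_univ_iff_exists_notMem _).1 hSu
  have hSne : S.Nonempty := by
    rw [← Set.ncard_pos]; omega
  obtain ⟨w, hw⟩ := hSne
  have hyw : y ≠ w := fun hc => hy (hc ▸ hw)
  have e : Fin k ≃ S := by
    rw [← Nat.card_coe_set_eq] at hS
    exact (Finite.equivFinOfCardEq hS).symm
  let e1 : Fin k ↪ Ω := ⟨fun i => (e i : Ω), fun i j hij => e.injective (Subtype.ext hij)⟩
  let σ : Equiv.Perm Ω := Equiv.swap w y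
  have hσσ : ∀ x, σ (σ⁻¹ x) = x := fun x => σ.apply_symm_apply x
  let e2 : Fin k ↪ Ω := ⟨fun i => σ (e i : Ω), fun i j hij => e.injective (Subtype.ext (σ.injective hij))⟩
  obtain ⟨z, hz⟩ := isMultiplyPretransitive_iff.1 h e1 e2
  have hz1 : ∀ s ∈ S, z • s = σ s := by
    intro s hs
    have h1 := DFunLike.congr_fun hz (e.symm ⟨s, hs⟩)
    have h2 : (e (e.symm ⟨s, hs⟩) : Ω) = s := by rw [Equiv.apply_symm_apply]
    have h3 : z • (e (e.symm ⟨s, hs⟩) : Ω) = σ (e (e.symm ⟨s, hs⟩) : Ω) := h1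
    rwa [h2] at h3
  set cc : Equiv.Perm Ω := toPermHom X Ω c with hcc
  have hcS : ∀ s, s ∈ S ↔ c • s ∈ S := by
    intro s
    constructor
    · intro hs
      rw [← hc.orb s hs]
      exact ⟨⟨c, Subgroup.mem_zpowers c⟩, rfl⟩
    · intro hs
      have h1 := hc.orb _ hs
      rw [← h1]
      exact ⟨⟨c⁻¹, Subgroup.inv_mem _ (Subgroup.mem_zpowers c)⟩, by simp⟩
  have hzc : toPermHom X Ω (z * c * z⁻¹) = σ * cc * σ⁻¹ := by
    ext x
    rw [toPermHom_apply, toPerm_apply]
    by_cases hx : z⁻¹ • x ∈ S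
    · have h1 : σ (z⁻¹ • x) = x := by rw [← hz1 _ hx, smul_inv_smul]
      have h2 : σ⁻¹ x = z⁻¹ • x := by rw [Equiv.Perm.inv_eq_iff_eq, h1]
      rw [mul_smul, mul_smul, Equiv.Perm.mul_apply, Equiv.Perm.mul_apply, h2, hcc, toPermHom_apply,
        toPerm_apply, hz1 _ ((hcS _).1 hx)]
    · have h3 : σ⁻¹ x ∉ S := by
        intro h4
        have h5 := hz1 _ h4
        rw [hσσ] at h5
        rw [← h5, inv_smul_smul] at hx
        exact hx h4
      rw [mul_smul, mul_smul, hc.fix _ hx, smul_inv_smul, Equiv.Perm.mul_apply, Equiv.Perm.mul_apply, hcc,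
        toPermHom_apply, toPerm_apply, hc.fix _ h3, hσσ]
  refine ⟨toPermHom X Ω (c⁻¹ * (z * c * z⁻¹)), ⟨_, rfl⟩, ?_⟩
  have hcy : cc⁻¹ y = y := by
    rw [Equiv.Perm.inv_eq_iff_eq, hcc, toPermHom_apply, toPerm_apply, hc.fix y hy]
  have hcw : cc⁻¹ w ≠ w := by
    intro h1
    rw [Equiv.Perm.inv_eq_iff_eq, hcc, toPermHom_apply, toPerm_apply] at h1
    have h2 := hc.orb w hw
    have h3 : S ⊆ {w} := by
      rw [← h2]
      rintro _ ⟨⟨d, hd⟩, rfl⟩
      have h4 : Subgroup.zpowers c ≤ stabilizer X w := by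
        rw [Subgroup.zpowers_le]
        exact h1.symm
      exact h4 hd
    have h4 := Set.ncard_le_ncard h3
    rw [Set.ncard_singleton] at h4
    omega
  have hcwy : cc⁻¹ w ≠ y := by
    intro h1
    rw [Equiv.Perm.inv_eq_iff_eq, hcc, toPermHom_apply, toPerm_apply, hc.fix y hy] at h1
    exact hyw h1.symm
  have h1 : toPermHom X Ω (c⁻¹ * (z * c * z⁻¹)) = Equiv.swap y (cc⁻¹ w) * Equiv.swap y w := by
    rw [map_mul, hzc, map_inv, ← hcc]
    have h2 : cc⁻¹ * σ * cc = Equiv.swap y (cc⁻¹ w) := by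
      have h3 := Equiv.swap_apply_apply cc⁻¹ w y
      rw [hcy, inv_inv] at h3
      rw [Equiv.swap_comm, h3]
    rw [← mul_assoc, ← mul_assoc, h2]
    congr 1
    change (Equiv.swap w y)⁻¹ = _
    rw [Equiv.swap_inv, Equiv.swap_comm]
  rw [h1]
  exact Equiv.Perm.isThreeCycle_swap_mul_swap_same hcwy.symm hyw hcw

theorem alt_le {G : Type u} [Group G] [Finite G] {Ω : Type v} [Fintype Ω] [MulAction G Ω] [DecidableEq Ω]
    (hprim : IsPreprimitive G Ω) (g : G) (k l : ℕ) (hk : 2 ≤ k) (hkl : k ≤ l)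
    (hsum : k + l = Fintype.card Ω) (hcop : Nat.Coprime k l) (ω₁ ω₂ : Ω)
    (h₁ : Nat.card (orbit (Subgroup.zpowers g) ω₁) = k) (h₂ : Nat.card (orbit (Subgroup.zpowers g) ω₂) = l)
    (h₁₂ : ω₂ ∉ orbit (Subgroup.zpowers g) ω₁) :
    alternatingGroup Ω ≤ (toPermHom G Ω).range := by
  have hkl' : k < l := by
    rcases Nat.lt_or_ge k l with h | h
    · exact h
    · have : k = l := le_antisymm hkl h
      subst this
      rw [Nat.coprime_self] at hcop
      omega
  have hcov : ∀ x, x ∉ orbit (Subgroup.zpowers g) ω₁ → x ∈ orbit (Subgroup.zpowers g) ω₂ := by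
    have hd : Disjoint (orbit (Subgroup.zpowers g) ω₁) (orbit (Subgroup.zpowers g) ω₂) := by
      rcases orbit.eq_or_disjoint (G := Subgroup.zpowers g) ω₁ ω₂ with h | h
      · exfalso
        apply h₁₂
        rw [h]
        exact mem_orbit_self _
      · exact h
    have h3 := Set.ncard_union_eq hd
    rw [← Nat.card_coe_set_eq, ← Nat.card_coe_set_eq (orbit (Subgroup.zpowers g) ω₁),
      ← Nat.card_coe_set_eq (orbit (Subgroup.zpowers g) ω₂), h₁, h₂, hsum, ← Nat.card_eq_fintype_card,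
      Nat.card_coe_set_eq, ← Set.ncard_univ] at h3
    have h4 := Set.eq_of_subset_of_ncard_le (Set.subset_univ _) h3.ge
    intro x hx
    have h5 : x ∈ (Set.univ : Set Ω) := trivial
    rw [← h4] at h5
    exact h5.resolve_left hx
  have hper : ∀ (ω x : Ω), x ∈ orbit (Subgroup.zpowers g) ω →
      g ^ (Nat.card (orbit (Subgroup.zpowers g) ω)) • x = x := by
    intro ω x hx
    have : Fintype (orbit (Subgroup.zpowers g) x) := Fintype.ofFinite _
    rw [← orbit_eq_iff.2 hx, pow_smul_eq_iff_minimalPeriod_dvd, minimalPeriod_eq_card,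
      Nat.card_eq_fintype_card]
  have hc : Cyc (g ^ l) (orbit (Subgroup.zpowers g) ω₁) := by
    apply Cyc.of_pow
    · intro x hx
      have := hper ω₂ x (hcov x hx)
      rwa [h₂] at this
    · rw [h₁]; exact hcop.symm
  have hd : Cyc (g ^ k) (orbit (Subgroup.zpowers g) ω₂) := by
    apply Cyc.of_pow
    · intro x hx
      have hx' : x ∈ orbit (Subgroup.zpowers g) ω₁ := by
        by_contra hx'
        exact hx (hcov x hx')
      have := hper ω₁ x hx'
      rwa [h₁] at this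
    · rw [h₂]; exact hcop
  rw [Nat.card_coe_set_eq] at h₁ h₂
  have hm := multi k l hkl' k (by omega) le_rfl G Ω hprim (by rw [Nat.card_eq_fintype_card]; omega)
    ⟨_, _, hc, h₁⟩ ⟨_, _, hd, h₂⟩
  have hm' : IsMultiplyPretransitive G Ω k :=
    isMultiplyPretransitive_of_le (n := k + 1) (by omega) (by rw [Nat.card_eq_fintype_card]; omega)
  have hSu : orbit (Subgroup.zpowers g) ω₁ ≠ Set.univ := fun h => h₁₂ (by rw [h]; trivial)
  obtain ⟨t, ht, ht3⟩ := three hc hk h₁ hSu hm'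
  have hp' : IsPreprimitive (toPermHom G Ω).range Ω := by
    let f : MulActionHom (toPermHom G Ω).rangeRestrict Ω Ω :=
      { toFun := id, map_smul' := fun _ _ => rfl }
    exact IsPreprimitive.of_surjective (f := f) Function.surjective_id
  exact Equiv.Perm.alternatingGroup_le_of_isPreprimitive_of_isThreeCycle_mem hp' ht3 ht

end Cfsg.Agent.H384.TwoCyc
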