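import Cfsg.Agent.CpAutCoFive.Core
import Cfsg.Agent.SporadicStructure.M23Index253
import Cfsg.Agent.SporadicA.M24Trans
import Cfsg.Agent.S5601
import Cfsg.Agent.Prune
set_option linter.all false
prune_inst 0x7f00000000000000000000000000000000000000000000000000000000000000000000000000000000000000000000000000000000000000000000000000000000000000000000000000000000000000003fffffffffffffffffffffffffffbeffbdffffffff
open scoped Cfsg.Agent.FastGrp

/-!
# Element orders: no element of order `25 r`, `r ≥ 7` prime, in `Co0`; no element of order 21 in `M22`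
-/

set_option autoImplicit false

namespace Cfsg.Agent.H384.Dim24

open Cfsg Module Subgroup
open Cfsg.Agent.CpAutCoFive
open Cfsg.Agent.SigZeroCo2.Rank (fix mem_fix)
open Cfsg.Agent.SigZeroCo2.Lin (rep Sp rep_injective)

section Lin

variable {V : Type*} [AddCommGroup V] [Module ℚ V] [FiniteDimensional ℚ V]

theorem no_25 (hV : finrank ℚ V = 24) {x y : Module.End ℚ V} (hx : x ^ 25 = 1) (hx5 : x ^ 5 ≠ 1) {r : ℕ}
    (hr : r.Prime) (h7 : 7 ≤ r) (hy : y ^ r = 1) (hxy : Commute x y) : y = 1 := by
  set u := x ^ 5 with hu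
  have h5 : Nat.Prime 5 := by norm_num
  have hu5 : u ^ 5 = 1 := by rw [hu, ← pow_mul]; exact hx
  have hxu : Commute x u := (Commute.refl x).pow_right 5
  have hyu : Commute y u := hxy.symm.pow_right 5
  have hadd := finrank_add (u := u) (r := 5) (by norm_num) hu5
  rw [hV] at hadd
  -- the moved space of `u` has dimension 20
  have hW : (25 : ℕ).totient ∣ finrank ℚ (mv u 5) := by
    refine dvd_finrank_sub (by norm_num) hx (fun w hw => mv_inv hxu hw) ?_
    intro p hp hpn v hv hv'
    have hp5 : p = 5 := by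
      have h1 : p ∣ 5 ^ 2 := by simpa using hpn
      exact (Nat.prime_dvd_prime_iff_eq hp h5).1 (hp.dvd_of_dvd_pow h1)
    subst hp5
    exact eq_zero_of_fix (by norm_num) hv' hv
  have h20 : (25 : ℕ).totient = 20 := by decide
  rw [h20] at hW
  have hne : finrank ℚ (mv u 5) ≠ 0 := by
    intro h0
    rw [h0] at hadd
    have h1 : fix u = ⊤ := Submodule.eq_top_of_finrank_eq (by rw [hV]; omega)
    apply hx5
    apply LinearMap.ext
    intro v
    have h2 : v ∈ fix u := by rw [h1]; trivial
    exact mem_fix.1 h2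
  have hW20 : finrank ℚ (mv u 5) = 20 := by
    obtain ⟨c, hc⟩ := hW
    rcases Nat.lt_or_ge c 2 with h | h
    · interval_cases c <;> omega
    · have : finrank ℚ (mv u 5) ≥ 40 := by rw [hc]; omega
      omega
  -- `y` is trivial on `fix u`
  have hfix : fix u ≤ fix y := by
    have h1 : finrank ℚ (fix u ⊓ mv y r : Submodule ℚ V) = 0 := by
      have h2 : r.totient ∣ finrank ℚ (fix u ⊓ mv y r : Submodule ℚ V) := by
        refine dvd_finrank_sub hr.pos hy (fun w hw => ⟨?_, mv_inv (Commute.refl y) hw.2⟩) ?_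
        · change y w ∈ fix u
          rw [mem_fix]
          have h3 : u w = w := mem_fix.1 hw.1
          have h4 : u (y w) = y (u w) := by
            rw [← Module.End.mul_apply, ← Module.End.mul_apply, hyu.eq]
          rw [h4, h3]
        · intro p hp hpn v hv hv'
          have hpr : p = r := (Nat.prime_dvd_prime_iff_eq hp hr).1 hpn
          subst hpr
          rw [Nat.div_self hr.pos, pow_one] at hv'
          exact eq_zero_of_fix hr.ne_zero hv' hv.2
      rw [Nat.totient_prime hr] at h2
      have h3 : finrank ℚ (fix u ⊓ mv y r : Submodule ℚ V) ≤ finrank ℚ (fix u) := Submodule.finrank_mono inf_le_left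
      by_contra h0
      have h4 := Nat.le_of_dvd (Nat.pos_of_ne_zero h0) h2
      omega
    refine le_fix_of hr.ne_zero hy (fun w hw => ?_) fun w hw hw' => ?_
    · rw [mem_fix]
      have h3 : u w = w := mem_fix.1 hw
      have h4 : u (y w) = y (u w) := by
        rw [← Module.End.mul_apply, ← Module.End.mul_apply, hyu.eq]
      rw [h4, h3]
    · have h2 : w ∈ (fix u ⊓ mv y r : Submodule ℚ V) := ⟨hw, hw'⟩
      rw [Submodule.finrank_eq_zero.1 h1, Submodule.mem_bot] at h2
      exact h2
  -- and on the moved space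
  have hcop : Nat.Coprime 25 r := by
    have : Nat.Coprime (5 ^ 2) r := Nat.Coprime.pow_left 2 ((Nat.coprime_primes h5 hr).2 (by omega))
    simpa using this
  have hmv : mv u 5 ≤ fix y := by
    have h1 : finrank ℚ (mv u 5 ⊓ mv y r : Submodule ℚ V) = 0 := by
      have h2 : (25 * r).totient ∣ finrank ℚ (mv u 5 ⊓ mv y r : Submodule ℚ V) := by
        refine dvd_finrank_sub (f := x * y) (Nat.mul_pos (by norm_num) hr.pos) ?_ (fun w hw =>
          ⟨mv_inv (hxu.mul_left hyu) hw.1, mv_inv (hxy.mul_left (Commute.refl y)) hw.2⟩) ?_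
        · rw [hxy.mul_pow, pow_mul, hx, one_pow, one_mul, mul_comm 25 r, pow_mul, hy, one_pow]
        · intro p hp hpn v hv hv'
          rcases (hp.dvd_mul).1 hpn with h3 | h3
          · have hp5 : p = 5 := by
              have h4 : p ∣ 5 ^ 2 := by simpa using h3
              exact (Nat.prime_dvd_prime_iff_eq hp h5).1 (hp.dvd_of_dvd_pow h4)
            subst hp5
            have e1 : 25 * r / 5 = 5 * r := by omega
            rw [e1, hxy.mul_pow, mul_comm 5 r, pow_mul y, hy, one_pow, mul_one, mul_comm r 5, pow_mul] at hv'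
            refine eq_zero_of_fix (by norm_num) ?_ hv.1
            refine fix_of_coprime (x := u) (a := r) (b := 5) ?_ (by norm_num) hv' (by rw [hu5]; rfl)
            exact (Nat.coprime_primes hr h5).2 (by omega)
          · have hpr : p = r := (Nat.prime_dvd_prime_iff_eq hp hr).1 h3
            subst hpr
            rw [Nat.mul_div_cancel _ hp.pos, hxy.mul_pow, hx, one_mul] at hv'
            exact eq_zero_of_fix hr.ne_zero (fix_of_coprime hcop (by omega) hv' (by rw [hy]; rfl)) hv.2
      rw [Nat.totient_mul hcop, Nat.totient_prime hr, h20] at h2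
      have h3 : finrank ℚ (mv u 5 ⊓ mv y r : Submodule ℚ V) ≤ finrank ℚ (mv u 5) := Submodule.finrank_mono inf_le_left
      by_contra h0
      have h4 := Nat.le_of_dvd (Nat.pos_of_ne_zero h0) h2
      omega
    refine le_fix_of hr.ne_zero hy (fun w hw => mv_inv hyu hw) fun w hw hw' => ?_
    have h2 : w ∈ (mv u 5 ⊓ mv y r : Submodule ℚ V) := ⟨hw, hw'⟩
    rw [Submodule.finrank_eq_zero.1 h1, Submodule.mem_bot] at h2
    exact h2
  have htop := (isCompl_mv (u := u) (r := 5) (by norm_num) hu5).sup_eq_top
  apply LinearMap.ext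
  intro v
  have h1 : v ∈ fix u ⊔ mv u 5 := by rw [htop]; trivial
  exact mem_fix.1 ((sup_le hfix hmv) h1)

end Lin

theorem no_order {g : Co0} {r : ℕ} (hr : r.Prime) (h7 : 7 ≤ r) (h : orderOf g = 25 * r) : False := by
  have h1 : orderOf (g ^ r) = 25 := by
    rw [orderOf_pow_of_dvd hr.ne_zero (by rw [h]; exact Dvd.intro_left 25 rfl), h, Nat.mul_div_cancel _ hr.pos]
  have h2 : orderOf (g ^ 25) = r := by
    rw [orderOf_pow_of_dvd (by norm_num) (by rw [h]; exact Dvd.intro r rfl), h, Nat.mul_div_cancel_left _ (by norm_num)]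
  have h3 : rep (g ^ 25) = 1 := by
    refine no_25 finrank_Sp (x := rep (g ^ r)) (y := rep (g ^ 25)) (rep_pow_one h1) ?_ hr h7 (rep_pow_one h2) ?_
    · rw [← map_pow]
      intro h4
      have h5 : (g ^ r) ^ 5 = 1 := rep_injective (by rw [h4, map_one])
      have h6 := orderOf_dvd_of_pow_eq_one h5
      rw [h1] at h6
      revert h6
      decide
    · rw [Commute, SemiconjBy, ← map_mul, ← map_mul, ← pow_add, ← pow_add, add_comm]
  have h4 : g ^ 25 = 1 := rep_injective (by rw [h3, map_one])
  rw [h4, orderOf_one] at h2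
  omega

theorem hs_no {x : Spor.HS} (h : orderOf x = 175) : False := by
  have hle : Spor.HS ≤ Co0 := inf_le_left.trans inf_le_left
  refine no_order (g := inclusion hle x) (r := 7) (by norm_num) le_rfl ?_
  rw [orderOf_injective _ (inclusion_injective hle), h]

theorem co3_no {x : Spor.Co3} (h : orderOf x = 275) : False := by
  have hle : Spor.Co3 ≤ Co0 := inf_le_left
  refine no_order (g := inclusion hle x) (r := 11) (by norm_num) (by norm_num) ?_
  rw [orderOf_injective _ (inclusion_injective hle), h]

open MulAction in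
theorem m22_no {x : Spor.M22} (h : orderOf x = 21) : False := by
  have hle : Spor.M22 ≤ M24 := inf_le_left.trans inf_le_left
  set g : M24 := inclusion hle x with hg
  have hg21 : orderOf g = 21 := by
    rw [hg, orderOf_injective _ (inclusion_injective hle), h]
  have hnone : (g : Equiv.Perm GolayPt) none = none := x.2.1.2
  have h3 : orderOf (g ^ 7) = 3 := by
    rw [orderOf_pow_of_dvd (by norm_num) (by rw [hg21]; norm_num), hg21]
  have h7 : orderOf (g ^ 3) = 7 := by
    rw [orderOf_pow_of_dvd (by norm_num) (by rw [hg21]; norm_num), hg21]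
  set F : Set GolayPt := {p : GolayPt | ∀ x ∈ zpowers (g ^ 7), ((x : M24) : Equiv.Perm GolayPt) p = p} with hF
  have hF0 : none ∈ F := by
    intro y hy
    have h1 : zpowers (g ^ 7) ≤ stabilizer M24 (none : GolayPt) := by
      rw [zpowers_le]
      exact Subgroup.pow_mem _ (show g ∈ stabilizer M24 (none : GolayPt) from hnone) 7
    exact h1 hy
  have hF6 : F.ncard = 6 := by
    rcases S5601.result.1 (zpowers (g ^ 7)) (by rw [Nat.card_zpowers, h3]) with h1 | h1
    · exact h1
    · exfalso
      rw [Set.ncard_eq_zero (Set.toFinite _)] at h1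
      have : none ∈ (∅ : Set GolayPt) := by rw [← h1]; exact hF0
      exact this
  have hFg : ∀ p ∈ F, ∀ k ∈ zpowers g, k • p ∈ F := by
    intro p hp k hk y hy
    have hcomm : y * k = k * y := by
      have hy' : y ∈ zpowers g := (zpowers_le.2 (Subgroup.pow_mem _ (mem_zpowers g) 7)) hy
      obtain ⟨i, rfl⟩ := mem_zpowers_iff.1 hk
      obtain ⟨j, rfl⟩ := mem_zpowers_iff.1 hy'
      rw [← zpow_add, ← zpow_add, add_comm]
    change y • (k • p) = k • p
    rw [smul_smul, hcomm, mul_smul]
    congr 1
    exact hp y hy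
  have hfix : ∀ p ∈ F, (g ^ 3) • p = p := by
    intro p hp
    have h1 : orbit (zpowers (g ^ 3)) p ⊆ F := by
      rintro _ ⟨⟨k, hk⟩, rfl⟩
      exact hFg p hp k ((zpowers_le.2 (Subgroup.pow_mem _ (mem_zpowers g) 3)) hk)
    have h2 := Set.ncard_le_ncard h1
    rw [hF6] at h2
    have h4 : (orbit (zpowers (g ^ 3)) p).ncard ∣ 7 := by
      rw [← h7, ← Nat.card_zpowers, ← index_stabilizer]
      exact Subgroup.index_dvd_card _
    rcases (Nat.dvd_prime (by norm_num)).1 h4 with h5 | h5
    · obtain ⟨z, hz⟩ := Set.ncard_eq_one.1 h5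
      have e1 : p ∈ ({z} : Set GolayPt) := by rw [← hz]; exact mem_orbit_self p
      have e2 : (g ^ 3) • p ∈ ({z} : Set GolayPt) := by
        rw [← hz]
        exact ⟨⟨g ^ 3, mem_zpowers _⟩, rfl⟩
      rw [Set.mem_singleton_iff] at e1 e2
      rw [e2, e1]
    · omega
  obtain ⟨s, hs, hs4⟩ := Set.exists_subset_card_eq (show 4 ≤ F.ncard by omega)
  exact SporadicStructure.M23Index253.no_fix_four SporadicA.M24Trans.card_M24 SporadicA.M24Trans.five_transitive
    (g ^ 3) h7 s hs4 (fun p hp => hfix p (hs hp))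

end Cfsg.Agent.H384.Dim24
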